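import Cfsg.Agent.TwoF.DC.D4.Ins
import Cfsg.Agent.TwoF.DC.TE.Main
import Cfsg.Agent.S1071
import Cfsg.Agent.S1082
import Cfsg.Agent.S2097
import Cfsg.Agent.S2098
import Cfsg.Agent.S2110
import Cfsg.Agent.S2129
import Cfsg.Agent.S2607
import Cfsg.Agent.S2608

/-!
# TwoF, defining characteristic: the types `D4` and `3D4` (helper37)

`td4` : the field of `Types`; `oplus4` : the case `m = 4` of the field `oplus`.
-/

set_option autoImplicit false
set_option linter.unusedSectionVars false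
set_option linter.unusedVariables false

namespace Cfsg.Agent.TwoF.DC.D4

open Cfsg Cfsg.Lie Cfsg.Agent.TwoF.DC.TE

theorem cent_tau : 3 ≤ Nat.card (Subgroup.centralizer ({tau} : Set S3)) := by
  have h1 : orderOf tau = 3 := orderOf_eq_prime (Subtype.ext (by decide)) fun e => by
    have := congrArg Subtype.val e
    revert this; decide
  rw [← h1, ← Nat.card_zpowers]
  refine Subgroup.card_le_of_le ((Subgroup.zpowers_le).mpr ?_)
  rintro _ rfl
  rfl

theorem cent_one : Nat.card (Subgroup.centralizer ({1} : Set S3)) = 6 := by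
  have h : Subgroup.centralizer ({1} : Set S3) = ⊤ := eq_top_iff.mpr fun g _ h e => by rw [e, one_mul, mul_one]
  rw [h, Subgroup.card_top, card_S3]

theorem four_le {p : ℕ} [Fact p.Prime] {k : Type} [Field k] [IsAlgClosed k] [CharP k p] (hp : p ≠ 2) {f : ℕ}
    (hf : 0 < f) : 4 ≤ Nat.card (tw4 p k f hf 1).Zc := by
  have := finite_Zc (tw4 p k f hf 1)
  let u : ℤˣ →* kˣ := Units.map (Int.castRingHom k).toMonoidHom
  have hu : Function.Injective u := (injective_iff_map_eq_one u).mpr fun a ha => by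
    rcases Int.units_eq_one_or a with rfl | rfl
    · rfl
    · have h1 : ((-1 : ℤ) : k) = 1 := congrArg Units.val ha
      have h2 : ((2 : ℕ) : k) = 0 := by push_cast at h1 ⊢; linear_combination -h1
      exact absurd ((Nat.prime_dvd_prime_iff_eq Fact.out Nat.prime_two).mp ((CharP.cast_eq_zero_iff k p 2).mp h2)) hp
  obtain ⟨m, hm⟩ : Odd (p ^ f) := ((Fact.out : p.Prime).odd_of_ne_two hp).pow
  have h1 : ∀ (a b : ℤˣ) (i : Fin 4), ∏ j, ![a, 1, b, a * b] j ^ gz (cm.getD j []) i = 1 := by decide +kernel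
  let c : ℤˣ × ℤˣ → (tw4 p k f hf 1).Zc := fun a => ⟨fun j => u (![a.1, 1, a.2, a.1 * a.2] j), fun i => by
      change u (![a.1, 1, a.2, a.1 * a.2] i) = _ ^ p ^ f
      rw [← map_pow, hm, pow_succ, pow_mul, Int.units_sq, one_pow, one_mul], fun i => by
      refine Eq.trans ?_ ((congrArg u (h1 a.1 a.2 i)).trans (map_one u))
      rw [map_prod]
      exact Finset.prod_congr rfl fun j _ => by rw [map_zpow, ← car4]; rfl⟩
  have h2 : Function.Injective c := fun a b e =>
    Prod.ext (hu (congrFun (congrArg Subtype.val e) 0)) (hu (congrFun (congrArg Subtype.val e) 2))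
  simpa using Nat.card_le_card_of_injective c h2

variable (hF : BoxFin) (h : BoxStd)
include hF h

theorem td4 : TBox (IsoChar fun K _ _ S _ =>
    ∃ q, IsPrimePow q ∧ Fintype.card K = q ^ 3 ∧ Nonempty (S ≃* Lie.twistedD4 K q)) := by
  rintro p _ S _ _ _ ⟨K, _, _, _, q, hq, hK, ⟨e⟩⟩
  obtain ⟨n, hp, hn⟩ := FiniteField.card K p
  obtain ⟨f, hf, rfl⟩ : ∃ f, 0 < f ∧ q = p ^ f := by
    obtain ⟨f, -, rfl⟩ := (Nat.dvd_prime_pow hp).mp
      (show q ∣ p ^ (n : ℕ) by rw [← hn, hK]; exact dvd_pow_self q three_ne_zero)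
    exact ⟨f, Nat.pos_of_ne_zero (by rintro rfl; exact hq.ne_one rfl), rfl⟩
  have := Finite.of_equiv _ e.toEquiv
  let k := AlgebraicClosure K
  let P := tw4 p k f hf tau
  have h1 := S1071.result hq hK
  refine Row.of_equiv (hF h p _ _ k _ _ P _ ⟨h1.1, h1.2, pi_tri hf (algebraMap K k) hK, 1, ?_,
    cyc p (S2110.result hq hK), (card_mulAut_le _).trans ?_⟩ (comb4 hf (Or.inr rfl))) e
  · have := finite_Zc P
    exact Nat.card_pos
  · rw [S2129.result p f (by rw [hK, ← pow_mul, mul_comm]) hf, one_mul]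
    exact Nat.mul_le_mul_right _ (Nat.mul_le_mul_right _ cent_tau)

theorem oplus4 : TBox (IsoChar fun F _ _ S _ => Nonempty (S ≃* POmega F (quadFormPlus 4 F))) := by
  rintro p _ S _ _ _ ⟨F, _, _, _, ⟨e⟩⟩
  obtain ⟨f, hp, hq⟩ := FiniteField.card F p
  have := Finite.of_equiv _ e.toEquiv
  have : NeZero (f : ℕ) := ⟨f.pos.ne'⟩
  let k := AlgebraicClosure F
  let P := tw4 p k f f.pos 1
  have hc : P.Comb fun _ => True := comb4 f.pos (Or.inl rfl)
  have h1 := S1054.result (F := F) chevD4 (by simp)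
  obtain ⟨i⟩ := S1082.result (F := F)
  obtain ⟨π, h2, h3⟩ := pi_untw (st4 p k) Nodes.RGDTwD4.hp P hc.fa (fun _ => rfl) (algebraMap F k) hq
  have h4 := h1.1
  have key : ∀ d, d ≤ Nat.card P.Zc →
      (∃ (A : Type) (_ : CommGroup A) (a : ℕ), HasSchurMultiplier (POmega F (quadFormPlus 4 F)) A ∧ Nat.card A ∣ d * p ^ a) →
      Nat.card (Out (POmega F (quadFormPlus 4 F))) = d * 6 * f → Row p S := fun d a b c =>
    Row.of_equiv (hF h p _ _ k _ _ P _ ⟨i.symm.isSimpleGroup, fun hh => h1.2 ⟨⟨fun x y => i.injective (by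
        rw [map_mul, map_mul, hh.1.1])⟩⟩,
      ⟨i.toMonoidHom.comp π, i.surjective.comp h2, fun t ht => h3 (i.injective (ht.trans (map_one i).symm))⟩, d, a, b,
      (card_mulAut_le _).trans (by rw [c, ← cent_one]; exact le_rfl)⟩ hc) e
  by_cases hp2 : p = 2
  · subst hp2
    refine key 1 ?_ ?_ ?_
    · have := finite_Zc P
      exact Nat.card_pos
    · by_cases h5 : Fintype.card F = 2
      · exact ⟨_, _, 2, S2098.result h5, by simp⟩
      · refine ⟨_, _, 2, S2097.result rfl 4 le_rfl (by decide) fun a => h5 a.2, ?_⟩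
        have : NeZero (Nat.gcd 2 (Fintype.card F ^ 4 - 1)) := ⟨Nat.gcd_ne_zero_left two_ne_zero⟩
        simpa [sq] using mul_dvd_mul (Nat.gcd_dvd_left 2 _) (Nat.gcd_dvd_left 2 _)
    · obtain ⟨j⟩ := (if_pos rfl).mp (S2607.result (m := 4) f.pos hq le_rfl)
      rw [Nat.card_congr j.toEquiv]
      simp [Fintype.card_perm, Nat.factorial]
  · refine key 4 (four_le hp2 f.pos) ⟨_, _, 0, S2097.result rfl 4 le_rfl (by decide) fun a => hp2 ?_, ?_⟩ ?_
    · exact (Nat.prime_dvd_prime_iff_eq hp Nat.prime_two).mp (a.2 ▸ hq ▸ dvd_pow_self p f.pos.ne')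
    · have : NeZero (Nat.gcd 2 (Fintype.card F ^ 4 - 1)) := ⟨Nat.gcd_ne_zero_left two_ne_zero⟩
      simpa using mul_dvd_mul (Nat.gcd_dvd_left 2 _) (Nat.gcd_dvd_left 2 _)
    · obtain ⟨j⟩ := (if_pos rfl).mp (S2608.result (m := 4) f.pos hq hp2 le_rfl)
      rw [Nat.card_congr j.toEquiv]
      simp [Fintype.card_perm, Nat.factorial]

end Cfsg.Agent.TwoF.DC.D4
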