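import Cfsg.Agent.TwoF.DC.D4.Mod
import Cfsg.Agent.TwoF.DC.Fin.Defs

/-!
# TwoF, defining characteristic, type `D4` (3): `Tws.Comb` for `D4` with triality and `3D4` (helper37)
-/

set_option autoImplicit false
set_option linter.unusedSectionVars false
set_option linter.unusedVariables false

namespace Cfsg.Agent.TwoF.DC.D4

open Module Cfsg.Agent.TwoF.DC.TE

variable {Φ : Type} [Fintype Φ] [DecidableEq Φ] {p : ℕ} [Fact p.Prime] {k : Type} [Field k] [CharP k p]
  [Infinite k] {G : Type} [Group G] {D : RDat p (Fin 4) Φ k G} (h : Tb D.R cm rt)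
include h

/-- the radical of a maximal parabolic subgroup is an offender -/
theorem good {σ : Equiv.Perm (Fin 4)} (F : Fam D σ) (h1 : Fintype.card F.J ≤ 3) (h2 : ∀ j, F.dbl j = false)
    {a : Fin 4} (ha : a ≠ 1) (h3 : ∀ j, ∃ b, b ≠ 1 ∧ a ≠ b ∧ (F.H j).lam = Pi.single b 1) : F.Good 1 := by
  have h4 : 6 ≤ (Finset.univ.filter fun b => 0 < D.R.cf b a).card :=
    (ends a ha).2 ▸ h.card_filter _ _ fun e b hb he => by
      have h5 : gz e.1 a = D.R.cf b a := (congrFun hb a).trans (D.R.vec_true b a)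
      rw [isNeg_iff] at he
      omega
  refine ⟨Finset.univ.filter fun b => 0 < D.R.cf b a, Finset.card_pos.mp (by omega), fun b hb => hb,
    fun b hb b' hb' s t => ?_, fun j _ => ?_, fun j hj => absurd hj (by rw [h2]; simp), ?_⟩
  · have h5 := D.cm b b' s t
    rw [show {g | ∃ a u, (∃ m n : ℕ, 0 < m ∧ 0 < n ∧ D.R.cf a = m • D.R.cf b + n • D.R.cf b') ∧ g = D.z a u} = ∅ from ?_,
      Subgroup.closure_empty, Subgroup.mem_bot] at h5
    · exact commutatorElement_eq_one_iff_commute.mp h5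
    · refine Set.eq_empty_of_forall_notMem ?_
      rintro g ⟨c, u, ⟨m, n, hm, hn, h6⟩, _⟩
      have h7 := congrFun h6 a
      have h8 := cf_le h ha c
      have h9 := (Finset.mem_filter.mp hb).2
      have h10 := (Finset.mem_filter.mp hb').2
      simp only [Pi.add_apply, Pi.smul_apply, smul_eq_mul] at h7
      nlinarith [Nat.mul_le_mul hm h9, Nat.mul_le_mul hn h10]
  · obtain ⟨b, hb, -, hl⟩ := h3 j
    refine (F.H j).cubic_of_lev _ (Pi.single a 1) (t := 1) (lo := 0) (fun b hb => ?_) fun μ hμ => ?_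
    · rw [D.R.hv_single]; exact_mod_cast (Finset.mem_filter.mp hb).2
    · rw [(F.H j).lev_single]
      exact ⟨(F.H j).dep_nonneg hμ a, by have := dep_lt h hb hl ha hμ; omega⟩
  · have h5 : F.valG (Finset.univ.filter fun b => 0 < D.R.cf b a) ≤ ∑ _j : F.J, 8 :=
      Finset.sum_le_sum fun j _ => by
        obtain ⟨b, hb, hab, hl⟩ := h3 j
        rw [h2 j, if_neg (by simp)]
        have h6 := cG_le_four h hb hl ha hab
        omega
    rw [Finset.sum_const, Finset.card_univ, smul_eq_mul] at h5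
    omega

omit h in
theorem single_comp {a b : Fin 4} {γ : Equiv.Perm (Fin 4)}
    (e : (Pi.single b 1 : Fin 4 → ℕ) = (Pi.single a 1 : Fin 4 → ℕ) ∘ γ.symm) : b = γ a := by
  by_contra h
  have h1 := congrFun e (γ a)
  rw [Function.comp_apply, Equiv.symm_apply_apply, Pi.single_eq_same, Pi.single_eq_of_ne (Ne.symm h)] at h1
  exact zero_ne_one h1

/-- all three modules of dimension eight -/
theorem joint {σ : Equiv.Perm (Fin 4)} (F : Fam D σ) (hall : ∀ a, a ≠ 1 → ∃ j, (F.H j).lam = Pi.single a 1)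
    {S : Finset Φ} (hA : D.R.Ab p S) (hI : D.R.Idl p S) (t : F.J → ℕ) : ∃ e : Fin 4 → F.J,
      (∀ a, a ≠ 1 → (F.H (e a)).lam = Pi.single a 1) ∧ t (e 0) + t (e 2) + t (e 3) ≤ ∑ j, t j ∧
      (S.card = 0 ∨ 2 * S.card + 1 ≤ (F.H (e 0)).cL S + (F.H (e 2)).cL S + (F.H (e 3)).cL S) := by
  classical
  choose! e he using hall
  have h1 : ∀ a b, a ≠ 1 → b ≠ 1 → e a = e b → a = b := fun a b ha hb hab => by
    have h2 := he a ha
    rw [hab, he b hb] at h2
    exact (single_comp (γ := 1) h2).symm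
  have h2 : ∀ a, a ≠ 1 → (F.H (e a)).lam a ≠ 0 := fun a ha => by rw [he a ha]; simp
  refine ⟨e, he, ?_, ?_⟩
  · have h3 := Finset.sum_le_sum_of_subset (f := t) (Finset.subset_univ {e 0, e 2, e 3})
    rw [Finset.sum_insert (by
      simp only [Finset.mem_insert, Finset.mem_singleton, not_or]
      exact ⟨fun x => absurd (h1 _ _ (by decide) (by decide) x) (by decide),
        fun x => absurd (h1 _ _ (by decide) (by decide) x) (by decide)⟩),
      Finset.sum_pair fun x => absurd (h1 _ _ (by decide) (by decide) x) (by decide)] at h3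
    omega
  · obtain ⟨I, h3, h4, h5⟩ := h.ideal (Fact.out : p.Prime).ne_one enum_j hA hI
    rw [Bool.and_eq_true, Bool.or_eq_true, Nat.beq_eq, Nat.ble_eq, Nat.ble_eq] at h5
    have h6 := cnt_le h _ 0 (h2 0 (by decide)) (chk_v 0).1 h3 h4
    have h7 := cnt_le h _ 2 (h2 2 (by decide)) (chk_v 2).1 h3 h4
    have h8 := cnt_le h _ 3 (h2 3 (by decide)) (chk_v 3).1 h3 h4
    omega

variable (P : Tws D) (h1 : ∀ γ, P.gι γ 1 = 1) (hσ : P.σ = 1 ∨ ∀ a, a ≠ 1 → P.gι P.σ a ≠ a)
include h1 hσ

theorem conclude (F : Fam D (P.gι P.σ)) (hd : ∀ j, F.dbl j = false)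
    (hm : ∀ j, ∃ a, a ≠ 1 ∧ (F.H j).lam = Pi.single a 1) (hc : Fintype.card F.J ≤ 3)
    (hn : ¬ ∀ a, a ≠ 1 → ∃ j, (F.H j).lam = Pi.single a 1) : P.Q F := by
  rcases hσ with hσ | hσ
  · push Not at hn
    obtain ⟨a, ha, hn⟩ := hn
    refine Or.inl ?_
    rw [show P.gΦ P.σ = 1 by rw [hσ, map_one]]
    exact good h F hc hd ha fun j => by
      obtain ⟨b, hb, hl⟩ := hm j
      exact ⟨b, hb, by rintro rfl; exact hn j hl, hl⟩
  · refine absurd (fun b hb => ?_) hn
    obtain ⟨j⟩ := F.neJ
    obtain ⟨a, ha, hl⟩ := hm j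
    have h2 : ∀ j a, (F.H j).lam = Pi.single a 1 → (F.H (F.π j)).lam = Pi.single (P.gι P.σ a) 1 := fun j a hl => by
      obtain ⟨c, -, hc⟩ := hm (F.π j)
      rw [hc, single_comp (hc.symm.trans ((F.lam_π j).trans (by rw [hl])))]
    have h3 : ∀ π : Equiv.Perm (Fin 4), π 1 = 1 → (∀ a, a ≠ 1 → π a ≠ a) → ∀ a b, a ≠ 1 → b ≠ 1 →
        b = a ∨ b = π a ∨ b = π (π a) := by decide +kernel
    rcases h3 _ (h1 _) hσ a b ha hb with rfl | rfl | rfl
    · exact ⟨j, hl⟩
    · exact ⟨_, h2 _ _ hl⟩
    · exact ⟨_, h2 _ _ (h2 _ _ hl)⟩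

/-- `Comb` for `D4` and `3D4` -/
theorem comb : P.Comb fun _ => True where
  ex := ex_true 0
  ok_gr := fun _ _ _ => trivial
  faith := h.faith (conn h)
  ct := fun F _ _ _ S hS hA hI hv => by
    have h0 := hS.card_pos
    have h6 := card_le_six h hA hI
    refine conclude h P h1 hσ F (fun j => ?_) (fun j => (cls h (F.H j)).resolve_right fun hL => ?_) ?_ fun hall => ?_
    · by_contra h3
      have h4 := le_trans (Finset.single_le_sum (f := fun j => if F.dbl j then
        (F.H j).cL S * (2 * (F.H j).d - (F.H j).cL S) else 2 * (F.H j).cL S) (fun _ _ => Nat.zero_le _)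
        (Finset.mem_univ j)) hv
      rw [if_pos (by simpa using h3)] at h4
      have h5 := small h (F.H j) hS hA hI
      have h7 := (F.H j).cL_lt_d S
      have h8 := eight_le h (F.H j)
      have h9 := Nat.mul_le_mul_left ((F.H j).cL S) (show 9 ≤ 2 * (F.H j).d - (F.H j).cL S by omega)
      omega
    · have h2 := one_le_val F S j
      have h3 := hL.big S hS hA hI
      omega
    · have h3 : ∑ _j : F.J, (S.card + 2) ≤ ∑ j, 2 * (F.H j).cL S := Finset.sum_le_sum fun j _ => by
        have := small h (F.H j) hS hA hI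
        omega
      have h4 := two_cL_le_val F S
      rw [Finset.sum_const, Finset.card_univ, smul_eq_mul] at h3
      nlinarith
    · obtain ⟨e, -, h3, h4⟩ := joint h F hall hA hI fun j => 2 * (F.H j).cL S
      have h5 := two_cL_le_val F S
      omega
  bg := fun γ _ _ _ L _ _ H _ => ⟨by have := eight_le h H; omega, fun S hS hA hI => by
    have h0 := hS.card_pos
    have h6 := card_le_six h hA hI
    have h5 := small h H hS hA hI
    have h7 := H.cL_lt_d S
    have h8 := eight_le h H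
    have h9 := Nat.mul_le_mul_left (H.cL S) (show 9 ≤ 2 * H.d - H.cL S by omega)
    omega⟩
  ctg := fun γ hγ _ _ F hd g _ _ O u _ _ _ _ _ S hSO hA hI h2 h3 => by
    obtain ⟨a, ha, hc⟩ : ∃ a, a ≠ 1 ∧ P.gι γ a ≠ a := by
      by_contra h4
      push Not at h4
      refine hγ (P.gι_inj (Equiv.ext fun i => ?_))
      rw [map_one]
      by_cases hi : i = 1
      · rw [hi]; exact h1 γ
      · exact h4 i hi
    have hc1 : P.gι γ a ≠ 1 := fun e => ha ((P.gι γ).injective (e.trans (h1 γ).symm))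
    have h6 := card_le_six h hA hI
    rw [← hSO] at h3
    generalize ht : (fun j => if hj : (F.H j).lam ∘ (P.gι γ).symm = (F.H j).lam then
      2 * ((F.H j).d - finrank k ↥(LinearMap.ker ((g j hj).g.toLinearMap - 1) ⊓
        ⨅ o ∈ O, LinearMap.ker ((F.H j).op (u o))))
      else 2 * (F.H j).d - finrank k ↥(⨅ o ∈ O, LinearMap.ker ((F.H j).op (u o)))) = t at h3
    replace h3 : ∑ j, t j ≤ 4 * S.card + 4 := h3
    have t1 : ∀ j, (F.H j).lam ∘ (P.gι γ).symm ≠ (F.H j).lam → 8 + (F.H j).cL S ≤ t j ∧ 2 * (F.H j).cL S ≤ t j :=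
      fun j hj => by
        rw [← ht]
        simp only [dif_neg hj]
        have h7 := h2 j
        have h8 := (F.H j).cL_add S
        have h9 := eight_le h (F.H j)
        omega
    have t2 : ∀ j, 2 * (F.H j).cL S ≤ t j := fun j => by
      by_cases hj : (F.H j).lam ∘ (P.gι γ).symm = (F.H j).lam
      · rw [← ht]
        simp only [dif_pos hj]
        have := (F.H j).fd
        have h8 := (Submodule.finrank_mono (inf_le_right (a := LinearMap.ker ((g j hj).g.toLinearMap - 1)))).trans (h2 j)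
        have h9 := (F.H j).cL_add S
        omega
      · exact (t1 j hj).2
    have t3 : ∀ j, (F.H j).lam ∘ (P.gι γ).symm = (F.H j).lam → ∀ B : Finset (Fin 4 → ℤ),
        (∀ ν ∈ B, (F.H j).IsWt ν ∧ 0 < ν a ∧ ν (P.gι γ a) < 0) → 2 * B.card ≤ t j := fun j hj B hB => by
      rw [← ht]
      simp only [dif_pos hj]
      have := (F.H j).fd
      have h9 := card_le_codim_fix _ (g j hj) (fun ν => 0 < ν a ∧ ν (P.gι γ a) < 0) (fun ν h9 h10 => by
        have h12 := h10.2
        rw [Function.comp_apply, Equiv.symm_apply_apply] at h12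
        omega) B hB
      have h10 := Submodule.finrank_mono (inf_le_left (a := LinearMap.ker ((g j hj).g.toLinearMap - 1))
        (b := ⨅ o ∈ O, LinearMap.ker ((F.H j).op (u o))))
      omega
    have t4 : ∀ j b, (F.H j).lam = Pi.single b 1 → (F.H j).lam ∘ (P.gι γ).symm = (F.H j).lam → b ≠ a ∧ b ≠ P.gι γ a :=
      fun j b hl hj => by
        rw [hl] at hj
        have h7 := single_comp hj.symm
        exact ⟨fun e => hc (by rw [← e, ← h7]), fun e => hc ((P.gι γ).injective (by rw [← e, ← h7]))⟩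
    have hm : ∀ j, ∃ a, a ≠ 1 ∧ (F.H j).lam = Pi.single a 1 := fun j => (cls h (F.H j)).resolve_right fun hL => by
      have h7 := Finset.single_le_sum (f := t) (fun _ _ => Nat.zero_le _) (Finset.mem_univ j)
      by_cases hS : S.Nonempty
      · have h8 := hL.big S hS hA hI
        have h9 := t2 j
        omega
      · rw [Finset.not_nonempty_iff_eq_empty.mp hS, Finset.card_empty] at h3
        by_cases hj : (F.H j).lam ∘ (P.gι γ).symm = (F.H j).lam
        · obtain ⟨B, h8, h9⟩ := hL.three a _ ha hc1 hc.symm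
          have h10 := t3 j hj B h9
          omega
        · have h8 := (t1 j hj).1
          omega
    refine conclude h P h1 hσ F hd hm ?_ fun hall => ?_
    · have h7 : ∑ _j : F.J, (S.card + 2) ≤ ∑ j, t j := Finset.sum_le_sum fun j _ => by
        by_cases hS : S.Nonempty
        · have h8 := small h (F.H j) hS hA hI
          have h9 := t2 j
          omega
        · rw [Finset.not_nonempty_iff_eq_empty.mp hS, Finset.card_empty]
          by_cases hj : (F.H j).lam ∘ (P.gι γ).symm = (F.H j).lam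
          · obtain ⟨b, hb, hl⟩ := hm j
            obtain ⟨B, h8, h9⟩ := one_wt h hb hl ha hc1 hc.symm (t4 j b hl hj).1 (t4 j b hl hj).2
            have h10 := t3 j hj B h9
            omega
          · have h8 := (t1 j hj).1
            omega
      rw [Finset.sum_const, Finset.card_univ, smul_eq_mul] at h7
      nlinarith
    · obtain ⟨e, he, h7, h8⟩ := joint h F hall hA hI t
      have h9 := (t1 (e a) fun hj => (t4 _ _ (he a ha) hj).1 rfl).1
      have h10 := (t1 (e (P.gι γ a)) fun hj => (t4 _ _ (he _ hc1) hj).2 rfl).1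
      have h11 := t2 (e 0)
      have h12 := t2 (e 2)
      have h13 := t2 (e 3)
      generalize P.gι γ a = c at h10 hc hc1
      have h14 : (a = 0 ∨ a = 2 ∨ a = 3) ∧ (c = 0 ∨ c = 2 ∨ c = 3) := by
        clear h9 h10 t3 t4; revert a c; decide
      obtain ⟨rfl | rfl | rfl, rfl | rfl | rfl⟩ := h14 <;> first | exact absurd rfl hc | omega
  ctf := fun _ J _ _ L _ _ H rep _ S hA hI sl hsl _ h2 => by
    exfalso
    obtain ⟨j⟩ := ‹Nonempty J›
    have h3 := le_trans (Finset.single_le_sum (f := fun j => (H j).d * ((H j).d - 1) + if S.Nonempty then 2 else 0)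
      (fun _ _ => Nat.zero_le _) (Finset.mem_univ j)) h2
    have h4 := eight_le h (H j)
    have h5 := Nat.mul_le_mul h4 (show 7 ≤ (H j).d - 1 by omega)
    have h6 := card_le_six h hA hI
    omega
  eight := fun _ L _ _ H S hA hI => by
    have h4 := eight_le h H
    have h5 := Nat.mul_le_mul h4 (show 7 ≤ H.d - 1 by omega)
    have h6 := card_le_six h hA hI
    omega

end Cfsg.Agent.TwoF.DC.D4
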