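import Cfsg.Agent.TwoF.DC.D4.Cmb
import Cfsg.Agent.TwoF.DC.D4.Gph
import Cfsg.Agent.TwoF.DC.TE.Tw
import Cfsg.Agent.TwoF.DC.Fin.Main
import Cfsg.Agent.H69.OutTwD4

/-!
# TwoF, defining characteristic, type `D4` (4): the Steinberg group of `D4` inside `E8`, triality (helper37)
-/

set_option autoImplicit false
set_option linter.unusedSectionVars false
set_option linter.unusedVariables false

namespace Cfsg.Agent.TwoF.DC.D4

open Cfsg Cfsg.Lie Cfsg.Lie.ChevalleyDatum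
open Cfsg.Agent.ChevalleyStructure Cfsg.Agent.ChevalleyStructure.Elts Cfsg.Agent.ChevalleyStructure.RootVec
  Cfsg.Agent.Nodes.RGDChev Cfsg.Agent.H45.UniE Cfsg.Agent.H405.UE Cfsg.Agent.TwoF.DC.RD
  Cfsg.Agent.ChevalleyStructure.CoxeterGeomTypes Cfsg.Agent.TwoF.DC.TE
open Cfsg.Agent.ChevalleyStructure.StBasic (sth)
open Cfsg.Agent.ChevalleyStructure.StTorus
open Cfsg.Agent.ChevalleyStructure.StTheta (theta)
open Cfsg.Agent.H129.StCover (stMap stMap_stGen ker_theta)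
open Cfsg.Agent.GpExc.Field (emb emb_injective glMap_xG glMap)
open Cfsg.Agent.BpExc.Emb (mem_range_of_pow)
open Cfsg.Agent.Nodes.RGDTwD4 (hp)
open Cfsg.Agent.H69.OutTwD4 (tw_le_iff hD4)

theorem good4 (i : ℕ) (hi : i < chevD4.rank) : GoodSimple chevD4 i := by
  obtain rfl | rfl | rfl | rfl : i = 0 ∨ i = 1 ∨ i = 2 ∨ i = 3 := by change i < 4 at hi; omega
  · exact ⟨by decide +kernel, ⟨6, 22, 1, by decide +kernel⟩, ⟨1, 17, 1, by decide +kernel⟩, by decide +kernel⟩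
  · exact ⟨by decide +kernel, ⟨1, 23, -1, by decide +kernel⟩, ⟨0, 22, -1, by decide +kernel⟩, by decide +kernel⟩
  · exact ⟨by decide +kernel, ⟨3, 22, -1, by decide +kernel⟩, ⟨1, 20, -1, by decide +kernel⟩, by decide +kernel⟩
  · exact ⟨by decide +kernel, ⟨2, 22, -1, by decide +kernel⟩, ⟨1, 21, -1, by decide +kernel⟩, by decide +kernel⟩

theorem exists_phi (k : Type) [Field k] : ∃ Φ : (Fin chevD4.rank → kˣ) →* chevD4.SteinbergGroup k,
    (∀ (i : Fin chevD4.rank) (x : kˣ), Φ (Pi.mulSingle i x) = sth chevD4 (chevD4.simple i) (x : k)) ∧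
      Subgroup.center (chevD4.SteinbergGroup k) ≤ Φ.range := by
  have hD7 : chevD4 ∈ [chevG2, chevB2, chevD4, chevF4, chevE6, chevE7, chevE8] := by simp
  have hs : ∀ i < chevD4.rank, chevD4.simple i < chevD4.nroots := fun i hi => (good4 i hi).1
  obtain ⟨θ, -, hker, hθ⟩ := Cfsg.Agent.S1077.result (K := k) chevD4 hD7
  have hcomm := pairwise_commute θ hker hθ
    (fun i s hi hsn c hc t => Cfsg.Agent.S1032.result chevD4 hD7 i s hi hsn c hc t) hs fun i _ hi _ _ => Or.inl (good4 i hi)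
  refine ⟨Phi hs hcomm, Phi_mulSingle hs hcomm, ?_⟩
  rw [← hker]
  exact (Cfsg.Agent.S1097.result chevD4 hD7 θ hθ).trans (closure_le_range_Phi hs hcomm)

theorem car4 : ∀ i j : Fin 4, cartanOf chevD4 4 i j = gz (cm.getD i []) j := by decide +kernel

theorem sl4 : Sl chevD4 4 where
  sym := by decide +kernel
  inj c h := by
    have h0 := h 0; have h1 := h 1; have h2 := h 2; have h3 := h 3
    simp [car4, Fin.sum_univ_four, cm, gz, p0, p2, m1] at h0 h1 h2 h3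
    funext i
    fin_cases i <;> simp <;> omega
  pos := ⟨![3, 5, 3, 3], by decide +kernel, by decide +kernel⟩

/-- the roots of `D4` in `E8` -/
def i8 (r : ℕ) : ℕ :=
  [87, 91, 92, 96, 97, 98, 102, 103, 108, 109, 104, 113, 126, 135, 130, 131, 136, 137, 141, 142, 143, 147, 148, 152].getD r 0
/-- the signs -/
def e8 (r : ℕ) : ℤ := [1, 1, 1, 1, 1, 1, -1, -1, 1, 1, 1, 1, 1, 1, 1, 1, -1, -1, 1, 1, 1, 1, 1, 1].getD r 1
/-- a transposition on the roots -/
def i2 (r : ℕ) : ℕ := [0, 1, 3, 2, 4, 5, 6, 8, 7, 9, 11, 10, 13, 12, 14, 16, 15, 17, 18, 19, 21, 20, 22, 23].getD r 0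
/-- triality on the roots -/
def i3 (r : ℕ) : ℕ := [0, 1, 6, 2, 7, 10, 3, 8, 4, 9, 11, 5, 18, 12, 14, 19, 15, 20, 13, 16, 21, 17, 22, 23].getD r 0
/-- the signs -/
def e3 (r : ℕ) : ℤ := [1, 1, -1, 1, -1, 1, -1, 1, -1, 1, 1, 1, 1, 1, 1, -1, 1, -1, 1, -1, 1, -1, 1, 1].getD r 1

set_option synthInstance.maxSize 1024 in
theorem se8 : SE chevD4 chevE8 i8 e8 :=
  ⟨by decide +kernel, by decide +kernel, by decide +kernel, by decide +kernel, by decide +kernel, by decide +kernel⟩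
set_option synthInstance.maxSize 1024 in
theorem se2 : SE chevD4 chevD4 i2 fun _ => 1 :=
  ⟨by decide +kernel, by decide +kernel, by decide +kernel, by decide +kernel, by decide +kernel, se8.clt⟩
set_option synthInstance.maxSize 1024 in
theorem se3 : SE chevD4 chevD4 i3 e3 :=
  ⟨by decide +kernel, by decide +kernel, by decide +kernel, by decide +kernel, by decide +kernel, se8.clt⟩

/-- `D4` in `E8` -/
def lv4 : Lv chevD4 chevE8 4 8 where
  ι := i8
  f := ![1, 3, 2, 4]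
  c := ![0, 3, 3, 5, 3, 0, 0, 0]
  hw _ := 1
  f_inj := by decide +kernel
  lt := se8.lt
  on := by decide +kernel
  off := by decide +kernel
  car := by decide +kernel
  c_off := by decide +kernel
  hw_pos _ := Nat.one_pos
  c_eq := by decide +kernel
  ε := e8
  ε_sq := se8.sq
  ε_simple := by decide +kernel
  ε_neg r hr := (se8.neg r hr).2.2

theorem up4 (k : Type) [Field k] : Up lv4 hp8 ((theta hp8.inList k).comp (se8.hom k)) :=
  ⟨fun r hr t => by rw [MonoidHom.comp_apply, se8.hom_gen k hr]; exact theta_zz hp8 _ _⟩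

theorem inj4 (k : Type) [Field k] [Infinite k] : Function.Injective ((theta hp8.inList k).comp (se8.hom k)) := by
  obtain ⟨Φ, h1, h2⟩ := exists_phi k
  exact (up4 k).inj' hp Φ h1 h2 (fu8 k) (S1054.result _ (by simp)).1 0

variable (p : ℕ) [Fact p.Prime] (k : Type) [Field k] [IsAlgClosed k] [CharP k p]

/-- the datum of `D4` -/
noncomputable def d4 : RDat p (Fin 4) (PR chevD4) k (chevD4.SteinbergGroup k) :=
  (up4 k).rdat hp (inj4 k) (tab_rc hp sl4) (fu8 k) p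

theorem st4 : StD (d4 p k) := ⟨fun _ _ => rfl, fun _ _ => rfl, fun _ _ => rfl⟩

theorem tb4 : Tb (d4 p k).R cm rt := ⟨car4, sl4.sym, chk_rt⟩

/-- the graph automorphisms -/
def S3 : Subgroup (Equiv.Perm (Fin 4)) := MulAction.stabilizer _ (1 : Fin 4)

/-- triality on the nodes -/
def tri : Equiv.Perm (Fin 4) := ⟨![2, 1, 3, 0], ![3, 1, 0, 2], by decide, by decide⟩

theorem card_S3 : Nat.card S3 = 6 := by
  rw [show Nat.card S3 = Nat.card {π : Equiv.Perm (Fin 4) // π 1 = 1} from rfl, Nat.card_eq_fintype_card]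
  decide +kernel

variable {p k} in
theorem ind_of {ι : ℕ → ℕ} {ε : ℕ → ℤ} (h : SE chevD4 chevD4 ι ε) {γ : Equiv.Perm (Fin 4)}
    (h1 : ∀ i j, cartanOf chevD4 4 (γ i) (γ j) = cartanOf chevD4 4 i j)
    (h2 : ∀ i : Fin 4, chevD4.simple i < 24 ∧ ι (chevD4.simple i) = chevD4.simple (γ i) ∧ ε (chevD4.simple i) = 1) :
    Ind (d4 p k) γ := by
  have h3 : ∀ i, (d4 p k).ht ((d4 p k).zi i) = 1 := fun i => by
    change ∑ j, (d4 p k).R.cf ((d4 p k).R.zi i) j * 1 = 1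
    simp [RC.cf_zi]
  refine ⟨h1, fun i => by rw [h3, h3], h.hom k, fun i t => ?_, fun i t => ?_⟩
  · rw [(st4 p k).x, (st4 p k).x, h.hom_gen k (h2 i).1, (h2 i).2.1, (h2 i).2.2, Int.cast_one, one_mul]
  · rw [(st4 p k).y, (st4 p k).y, h.hom_gen k (h.neg _ (h2 i).1).1, ← (h.neg _ (h2 i).1).2.1, (h.neg _ (h2 i).1).2.2,
      (h2 i).2.1, (h2 i).2.2, Int.cast_one, one_mul]

theorem ind4 (γ : S3) : Ind (d4 p k) γ := by
  have h2 : Ind (d4 p k) (Equiv.swap 2 3) := ind_of se2 (by decide +kernel) (by decide +kernel)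
  have h3 : Ind (d4 p k) tri := ind_of se3 (by decide +kernel) (by decide +kernel)
  have h : ∀ π : Equiv.Perm (Fin 4), π 1 = 1 → π = 1 ∨ π = tri ∨ π = tri * tri ∨ π = Equiv.swap 2 3 ∨
      π = Equiv.swap 2 3 * tri ∨ π = tri * Equiv.swap 2 3 := by decide +kernel
  rcases h γ γ.2 with e | e | e | e | e | e <;> rw [e]
  exacts [Ind.one, h3, h3.mul h3, h2, h2.mul h3, h3.mul h2]

/-- the twists of `D4` -/
noncomputable def tw4 (f : ℕ) (hf : 0 < f) (σ : S3) : Tws (d4 p k) :=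
  mkTws S3 (ind4 p k) (by rw [card_S3]) σ (fun i i' h1 h2 => by
      have h3 : ∀ {a b : Fin 4}, (σ : Equiv.Perm (Fin 4)).SameCycle a b → a = 1 → b = 1 := by
        rintro _ _ ⟨m, rfl⟩ rfl
        exact (σ ^ m).2
      have h4 : ∀ a b : Fin 4, a ≠ b → (a = 1 → b = 1) → (b = 1 → a = 1) → cartanOf chevD4 4 a b = 0 := by
        decide +kernel
      exact h4 i i' h2 (h3 h1) (h3 h1.symm))
    f hf (stMap chevD4 (frobenius k p)) (fun b t => by rw [(st4 p k).z, (st4 p k).z, stMap_stGen, frobenius_def])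
    fun i t => by rw [(st4 p k).y, (st4 p k).y, stMap_stGen, frobenius_def]

/-- triality -/
def tau : S3 := ⟨tri, rfl⟩

variable {p k}

theorem comb4 {f : ℕ} (hf : 0 < f) {σ : S3} (hσ : σ = 1 ∨ σ = tau) : (tw4 p k f hf σ).Comb fun _ => True :=
  comb (tb4 p k) _ (fun γ => γ.2) (hσ.imp_right (by rintro rfl; change ∀ a, a ≠ 1 → tri a ≠ a; decide))

theorem tw_le {K : Type} [Field K] (q : ℕ) : twistedD4 K q ≤ chevD4.group K :=
  (tw_le_iff _).mpr ⟨fun t _ r _ => xG_mem_group hD4 r t,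
    fun t rs _ => mul_mem (xG_mem_group hD4 _ _) (mul_mem (xG_mem_group hD4 _ _) (xG_mem_group hD4 _ _))⟩

/-- the map onto the twisted group -/
theorem pi_tri {f : ℕ} (hf : 0 < f) {K : Type} [Field K] [Fintype K] (φ : K →+* k) (hK : Fintype.card K = (p ^ f) ^ 3) :
    ∃ π : (tw4 p k f hf tau).TT →* ↥(twistedD4 K (p ^ f)),
      Function.Surjective π ∧ π.ker ≤ Subgroup.center (tw4 p k f hf tau).TT := by
  set P := tw4 p k f hf tau with hP
  let e : ↥(twistedD4 K (p ^ f)) →* ↥(chevD4.group k) := (emb hD4 φ).comp (Subgroup.inclusion (tw_le _))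
  have hx : ∀ r (t : K), ((theta hD4 k (chevD4.stGen k r (φ t)) : ↥(chevD4.group k)) : GL chevD4.Idx k) =
      glMap chevD4 φ (xG hD4 r t) := fun r t => by rw [theta_zz hp, glMap_xG]; rfl
  have h0 : ∀ a : k, ((a ^ p ^ f) ^ p ^ f) ^ p ^ f = a ^ Fintype.card K := fun a => by
    rw [hK, ← pow_mul, ← pow_mul]; ring
  have h1 : ∀ t : K, (φ t ^ p ^ f) ^ p ^ f = φ (t ^ (p ^ f) ^ 2) := fun t => by rw [map_pow, sq, pow_mul]
  have m0 := (tw_le_iff (K := K) (q := p ^ f) _).mp le_rfl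
  have m1 : ∀ {r} {t : K}, xG hD4 r t ∈ twistedD4 K (p ^ f) → chevD4.stGen k r (φ t) ∈ e.range.comap (theta hD4 k) :=
    fun h => ⟨⟨_, h⟩, Subtype.ext (hx _ _).symm⟩
  have m3 : ∀ {r s u} {t : K}, xG hD4 r t * (xG hD4 s (t ^ p ^ f) * xG hD4 u (t ^ (p ^ f) ^ 2)) ∈ twistedD4 K (p ^ f) →
      chevD4.stGen k r (φ t) * chevD4.stGen k s (φ t ^ p ^ f) * chevD4.stGen k u ((φ t ^ p ^ f) ^ p ^ f) ∈
        e.range.comap (theta hD4 k) := fun h => ⟨⟨_, h⟩, Subtype.ext (by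
      rw [h1, ← map_pow, map_mul, map_mul, Subgroup.coe_mul, Subgroup.coe_mul, hx, hx, hx, ← map_mul, ← map_mul, mul_assoc]
      rfl)⟩
  refine exists_pi (theta hD4 k) (ker_theta _).le _ e ((emb_injective hD4 φ).comp (Subgroup.inclusion_injective _))
    (P.TT_le (comb4 hf (Or.inr rfl)).fa fun j v hv => ?_) ?_
  · obtain rfl | rfl : orb P.sι 1 = j ∨ orb P.sι 0 = j := by
      rw [← orb_rp j]
      generalize rp j = i
      fin_cases i
      · exact Or.inr rfl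
      · exact Or.inl rfl
      · exact Or.inr (orb_apply (σ := P.sι) 0).symm
      · exact Or.inr (orb_apply (σ := P.sι) 3)
    · have ha : v 1 ^ p ^ f = v 1 := (hv 1 rfl).symm
      obtain ⟨b, hb⟩ := mem_range_of_pow φ (t := v 1) (by rw [← h0, ha, ha, ha])
      have hb' : b ^ p ^ f = b := φ.injective (by rw [map_pow, hb, ha])
      rw [Tws.xo, Tws.yo, P.po_one' rfl fun i => (d4 p k).x_mem_Lo i _, P.po_one' rfl fun i => (d4 p k).y_mem_Lo i _, ← hb]
      exact ⟨m1 (m0.1 b hb' 14 (by simp)), m1 (m0.1 b hb' 9 (by simp))⟩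
    · have e1 : v 2 = v 0 ^ p ^ f := hv 0 rfl
      have e2 : v 3 = v 2 ^ p ^ f := hv 2 (orb_apply (σ := P.sι) 0)
      have e3 : v 0 = v 3 ^ p ^ f := hv 3 (orb_apply (σ := P.sι) 3).symm
      obtain ⟨b, hb⟩ := mem_range_of_pow φ (t := v 0) (by rw [← h0, ← e1, ← e2, ← e3])
      have n0 : P.sι 0 ≠ 0 := by change tri 0 ≠ 0; decide
      rw [Tws.xo, Tws.yo, P.po_three n0 rfl fun i => (d4 p k).x_mem_Lo i _, P.po_three n0 rfl fun i => (d4 p k).y_mem_Lo i _]
      change _ * (d4 p k).x 2 (v 2) * (d4 p k).x 3 (v 3) ∈ _ ∧ _ * (d4 p k).y 2 (v 2) * (d4 p k).y 3 (v 3) ∈ _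
      rw [e2, e1, ← hb]
      exact ⟨m3 (m0.2 b (18, 13, 12) (by simp)), m3 (m0.2 b (5, 10, 11) (by simp))⟩
  · let N := ((P.TT.map (theta hD4 k)).map (chevD4.group k).subtype).comap (glMap chevD4 φ)
    have n1 : ∀ {r} {t : K}, chevD4.stGen k r (φ t) ∈ P.TT → xG hD4 r t ∈ N := fun h => ⟨_, ⟨_, h, rfl⟩, hx _ _⟩
    have n3 : ∀ {r s u} {t : K},
        chevD4.stGen k r (φ t) * chevD4.stGen k s (φ t ^ p ^ f) * chevD4.stGen k u ((φ t ^ p ^ f) ^ p ^ f) ∈ P.TT →
        xG hD4 r t * (xG hD4 s (t ^ p ^ f) * xG hD4 u (t ^ (p ^ f) ^ 2)) ∈ N := fun h => ⟨_, ⟨_, h, rfl⟩, by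
      rw [h1, ← map_pow, mul_assoc, map_mul, map_mul, map_mul, map_mul, map_mul, map_mul]
      exact congrArg₂ _ (hx _ _) (congrArg₂ _ (hx _ _) (hx _ _))⟩
    have h3 : twistedD4 K (p ^ f) ≤ N := by
      refine (tw_le_iff N).mpr ⟨fun t ht r hr => ?_, fun t rs hr => ?_⟩
      · have h4 := P.xy_mem_one (i := 1) rfl (a := φ t) (by change _ ^ p ^ f = _; rw [← map_pow, ht])
        simp only [List.mem_cons, List.not_mem_nil, or_false] at hr
        rcases hr with rfl | rfl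
        · exact n1 h4.1
        · exact n1 h4.2
      · have h4 := P.xy_mem_three (i := 0) (by change tri 0 ≠ 0; decide) rfl (a := φ t)
          ((h0 _).trans (by rw [← map_pow, FiniteField.pow_card]))
        simp only [List.mem_cons, List.not_mem_nil, or_false] at hr
        rcases hr with rfl | rfl
        · exact n3 h4.1
        · exact n3 h4.2
    rintro _ ⟨s, rfl⟩
    obtain ⟨g, hg, e1⟩ := h3 s.2
    rwa [show e s = g from Subtype.ext e1.symm]

end Cfsg.Agent.TwoF.DC.D4
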