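import Cfsg.Agent.TwoF.DC.TE.Cmb

/-!
# TwoF, defining characteristic, type `D4`: the tables (generated; helper37)
-/

set_option autoImplicit false
set_option maxRecDepth 100000

namespace Cfsg.Agent.TwoF.DC.D4

open Cfsg.Agent.TwoF.DC.TE

/-- the Cartan matrix -/
def cm : List (List ℤ) :=
  [[p2, m1, p0, p0],
   [m1, p2, m1, m1],
   [p0, m1, p2, p0],
   [p0, m1, p0, p2]]

/-- the positive roots -/
def rt : List RE :=
  [
    ([p1, p2, p1, p1], [p0, p1, p0, p0], nat_lit 0, nat_lit 0),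
    ([p1, p1, p1, p1], [p1, m1, p1, p1], nat_lit 1, nat_lit 0),
    ([p1, p1, p1, p0], [p1, p0, p1, m1], nat_lit 2, nat_lit 0),
    ([p1, p1, p0, p1], [p1, p0, m1, p1], nat_lit 2, nat_lit 0),
    ([p0, p1, p1, p1], [m1, p0, p1, p1], nat_lit 2, nat_lit 0),
    ([p1, p1, p0, p0], [p1, p1, m1, m1], nat_lit 12, nat_lit 16),
    ([p0, p1, p1, p0], [m1, p1, p1, m1], nat_lit 20, nat_lit 8),
    ([p0, p1, p0, p1], [m1, p1, m1, p1], nat_lit 24, nat_lit 4),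
    ([p1, p0, p0, p0], [p2, m1, p0, p0], nat_lit 32, nat_lit 208),
    ([p0, p1, p0, p0], [m1, p2, m1, m1], nat_lit 224, nat_lit 258),
    ([p0, p0, p1, p0], [p0, m1, p2, p0], nat_lit 64, nat_lit 680),
    ([p0, p0, p0, p1], [p0, m1, p0, p2], nat_lit 128, nat_lit 612)]

theorem chk_rt : chkR 4 cm rt = true := by decide +kernel

/-- the orbit of [p1, p0, p0, p0] -/
def w0 : List WE :=
  [
    (nat_lit 8, nat_lit 0, [m1, p0, p0, p0], nat_lit 303), (nat_lit 9, nat_lit 0, [p1, m1, p0, p0], nat_lit 721),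
    (nat_lit 10, nat_lit 0, [p0, p1, m1, m1], nat_lit 3090), (nat_lit 11, nat_lit 1, [p0, p0, p1, m1], nat_lit 2184),
    (nat_lit 10, nat_lit 0, [p0, p0, m1, p1], nat_lit 1092), (nat_lit 9, nat_lit 0, [p0, m1, p1, p1], nat_lit 544),
    (nat_lit 8, nat_lit 0, [m1, p1, p0, p0], nat_lit 256), (nat_lit 999, nat_lit 999, [p1, p0, p0, p0], nat_lit 0)]

/-- the orbit of [p0, p1, p0, p0] -/
def w1 : List WE :=
  [
    (nat_lit 9, nat_lit 0, [p0, m1, p0, p0], nat_lit 767), (nat_lit 11, nat_lit 0, [m1, p1, m1, m1], nat_lit 3359),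
    (nat_lit 8, nat_lit 2, [m1, p0, m1, p1], nat_lit 1383), (nat_lit 11, nat_lit 1, [p1, p0, m1, m1], nat_lit 3283),
    (nat_lit 11, nat_lit 1, [m1, p0, p1, m1], nat_lit 2475), (nat_lit 9, nat_lit 3, [p1, m1, m1, p1], nat_lit 1621),
    (nat_lit 9, nat_lit 1, [m1, m1, p1, p1], nat_lit 813), (nat_lit 11, nat_lit 2, [p1, m1, p1, m1], nat_lit 2713),
    (nat_lit 8, nat_lit 3, [m2, p1, p0, p0], nat_lit 302), (nat_lit 10, nat_lit 3, [p0, p1, m2, p0], nat_lit 1110),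
    (nat_lit 5, nat_lit 1, [p1, m2, p1, p1], nat_lit 737), (nat_lit 7, nat_lit 2, [p0, p1, p0, m2], nat_lit 2202),
    (nat_lit 9, nat_lit 3, [p2, m1, p0, p0], nat_lit 720), (nat_lit 9, nat_lit 3, [p0, m1, p2, p0], nat_lit 680),
    (nat_lit 8, nat_lit 1, [m1, p2, m1, m1], nat_lit 3330), (nat_lit 9, nat_lit 2, [p0, m1, p0, p2], nat_lit 612),
    (nat_lit 10, nat_lit 2, [p1, p1, m1, m1], nat_lit 3088), (nat_lit 8, nat_lit 1, [m1, p1, p1, m1], nat_lit 2312),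
    (nat_lit 8, nat_lit 1, [m1, p1, m1, p1], nat_lit 1284), (nat_lit 11, nat_lit 2, [p1, p0, p1, m1], nat_lit 2176),
    (nat_lit 10, nat_lit 1, [p1, p0, m1, p1], nat_lit 1088), (nat_lit 8, nat_lit 0, [m1, p0, p1, p1], nat_lit 288),
    (nat_lit 9, nat_lit 0, [p1, m1, p1, p1], nat_lit 512), (nat_lit 999, nat_lit 999, [p0, p1, p0, p0], nat_lit 0)]

/-- the orbit of [p0, p0, p1, p0] -/
def w2 : List WE :=
  [
    (nat_lit 10, nat_lit 0, [p0, p0, m1, p0], nat_lit 1111), (nat_lit 9, nat_lit 0, [p0, m1, p1, p0], nat_lit 681),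
    (nat_lit 8, nat_lit 0, [m1, p1, p0, m1], nat_lit 2314), (nat_lit 11, nat_lit 1, [p1, p0, p0, m1], nat_lit 2192),
    (nat_lit 8, nat_lit 0, [m1, p0, p0, p1], nat_lit 292), (nat_lit 9, nat_lit 0, [p1, m1, p0, p1], nat_lit 576),
    (nat_lit 10, nat_lit 0, [p0, p1, m1, p0], nat_lit 1024), (nat_lit 999, nat_lit 999, [p0, p0, p1, p0], nat_lit 0)]

/-- the orbit of [p0, p0, p0, p1] -/
def w3 : List WE :=
  [
    (nat_lit 11, nat_lit 0, [p0, p0, p0, m1], nat_lit 2203), (nat_lit 9, nat_lit 0, [p0, m1, p0, p1], nat_lit 613),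
    (nat_lit 8, nat_lit 0, [m1, p1, m1, p0], nat_lit 1286), (nat_lit 10, nat_lit 1, [p1, p0, m1, p0], nat_lit 1104),
    (nat_lit 8, nat_lit 0, [m1, p0, p1, p0], nat_lit 296), (nat_lit 9, nat_lit 0, [p1, m1, p1, p0], nat_lit 640),
    (nat_lit 11, nat_lit 0, [p0, p1, p0, m1], nat_lit 2048), (nat_lit 999, nat_lit 999, [p0, p0, p0, p1], nat_lit 0)]

/-- the orbit of [p1, p0, p1, p0] -/
def w02 : List WE :=
  [
    (nat_lit 8, nat_lit 0, [m1, p0, m1, p0], nat_lit 1407), (nat_lit 9, nat_lit 1, [p1, m1, m1, p0], nat_lit 1751),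
    (nat_lit 9, nat_lit 1, [m1, m1, p1, p0], nat_lit 943), (nat_lit 11, nat_lit 2, [p0, p1, m2, m1], nat_lit 3159),
    (nat_lit 11, nat_lit 3, [m2, p1, p0, m1], nat_lit 2351), (nat_lit 6, nat_lit 1, [p1, m2, p1, p0], nat_lit 761),
    (nat_lit 10, nat_lit 4, [p0, p0, m2, p1], nat_lit 1111), (nat_lit 11, nat_lit 3, [p0, m1, p2, m1], nat_lit 2729),
    (nat_lit 8, nat_lit 4, [m2, p0, p0, p1], nat_lit 303), (nat_lit 11, nat_lit 3, [p2, m1, p0, m1], nat_lit 2769),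
    (nat_lit 10, nat_lit 1, [m1, p2, m1, m2], nat_lit 3354), (nat_lit 9, nat_lit 4, [p0, m2, p2, p1], nat_lit 681),
    (nat_lit 7, nat_lit 3, [m1, p1, p1, m2], nat_lit 2442), (nat_lit 9, nat_lit 5, [p2, m2, p0, p1], nat_lit 721),
    (nat_lit 10, nat_lit 2, [p1, p1, m1, m2], nat_lit 3218), (nat_lit 10, nat_lit 2, [m1, p0, m1, p2], nat_lit 1380),
    (nat_lit 8, nat_lit 4, [m2, p2, p0, m1], nat_lit 2314), (nat_lit 3, nat_lit 3, [p1, p0, p1, m2], nat_lit 2200),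
    (nat_lit 9, nat_lit 3, [m1, m1, p1, p2], nat_lit 804), (nat_lit 10, nat_lit 4, [p0, p2, m2, m1], nat_lit 3090),
    (nat_lit 10, nat_lit 2, [p1, m1, m1, p2], nat_lit 1604), (nat_lit 11, nat_lit 4, [p2, p0, p0, m1], nat_lit 2192),
    (nat_lit 8, nat_lit 3, [m2, p1, p0, p1], nat_lit 292), (nat_lit 5, nat_lit 2, [p1, m2, p1, p2], nat_lit 608),
    (nat_lit 11, nat_lit 3, [p0, p0, p2, m1], nat_lit 2184), (nat_lit 6, nat_lit 1, [p0, p1, m2, p1], nat_lit 1092),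
    (nat_lit 9, nat_lit 2, [p2, m1, p0, p1], nat_lit 576), (nat_lit 8, nat_lit 1, [m1, p2, m1, p0], nat_lit 1280),
    (nat_lit 9, nat_lit 1, [p0, m1, p2, p1], nat_lit 544), (nat_lit 10, nat_lit 1, [p1, p1, m1, p0], nat_lit 1024),
    (nat_lit 8, nat_lit 0, [m1, p1, p1, p0], nat_lit 256), (nat_lit 999, nat_lit 999, [p1, p0, p1, p0], nat_lit 0)]

/-- the orbit of [p1, p0, p0, p1] -/
def w03 : List WE :=
  [
    (nat_lit 8, nat_lit 0, [m1, p0, p0, m1], nat_lit 2495), (nat_lit 9, nat_lit 1, [p1, m1, p0, m1], nat_lit 2779),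
    (nat_lit 8, nat_lit 1, [m1, m1, p0, p1], nat_lit 879), (nat_lit 10, nat_lit 2, [p0, p1, m1, m2], nat_lit 3227),
    (nat_lit 7, nat_lit 2, [p1, m2, p0, p1], nat_lit 757), (nat_lit 5, nat_lit 2, [m2, p1, m1, p0], nat_lit 1327),
    (nat_lit 11, nat_lit 4, [p0, p0, p1, m2], nat_lit 2203), (nat_lit 10, nat_lit 3, [p0, m1, m1, p2], nat_lit 1637),
    (nat_lit 11, nat_lit 3, [m1, p2, m2, m1], nat_lit 3350), (nat_lit 9, nat_lit 3, [p2, m1, m1, p0], nat_lit 1745),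
    (nat_lit 2, nat_lit 3, [m2, p0, p1, p0], nat_lit 303), (nat_lit 9, nat_lit 4, [p0, m2, p1, p2], nat_lit 613),
    (nat_lit 6, nat_lit 3, [m1, p1, m2, p1], nat_lit 1350), (nat_lit 11, nat_lit 3, [p1, p1, m2, m1], nat_lit 3154),
    (nat_lit 11, nat_lit 3, [m1, p0, p2, m1], nat_lit 2472), (nat_lit 6, nat_lit 3, [p2, m2, p1, p0], nat_lit 721),
    (nat_lit 8, nat_lit 4, [m2, p2, m1, p0], nat_lit 1286), (nat_lit 2, nat_lit 3, [p1, p0, m2, p1], nat_lit 1108),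
    (nat_lit 9, nat_lit 3, [m1, m1, p2, p1], nat_lit 808), (nat_lit 11, nat_lit 3, [p1, m1, p2, m1], nat_lit 2696),
    (nat_lit 10, nat_lit 3, [p0, p2, m1, m2], nat_lit 3090), (nat_lit 10, nat_lit 4, [p2, p0, m1, p0], nat_lit 1104),
    (nat_lit 8, nat_lit 3, [m2, p1, p1, p0], nat_lit 296), (nat_lit 5, nat_lit 2, [p1, m2, p2, p1], nat_lit 672),
    (nat_lit 7, nat_lit 2, [p0, p1, p1, m2], nat_lit 2184), (nat_lit 10, nat_lit 2, [p0, p0, m1, p2], nat_lit 1092),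
    (nat_lit 9, nat_lit 2, [p2, m1, p1, p0], nat_lit 640), (nat_lit 8, nat_lit 1, [m1, p2, p0, m1], nat_lit 2304),
    (nat_lit 9, nat_lit 1, [p0, m1, p1, p2], nat_lit 544), (nat_lit 11, nat_lit 1, [p1, p1, p0, m1], nat_lit 2048),
    (nat_lit 8, nat_lit 0, [m1, p1, p0, p1], nat_lit 256), (nat_lit 999, nat_lit 999, [p1, p0, p0, p1], nat_lit 0)]

/-- the orbit of [p0, p0, p1, p1] -/
def w23 : List WE :=
  [
    (nat_lit 10, nat_lit 0, [p0, p0, m1, m1], nat_lit 3295), (nat_lit 9, nat_lit 1, [p0, m1, p1, m1], nat_lit 2747),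
    (nat_lit 10, nat_lit 1, [p0, m1, m1, p1], nat_lit 1655), (nat_lit 8, nat_lit 2, [m1, p1, p0, m2], nat_lit 2459),
    (nat_lit 7, nat_lit 2, [p0, m2, p1, p1], nat_lit 749), (nat_lit 6, nat_lit 2, [m1, p1, m2, p0], nat_lit 1367),
    (nat_lit 11, nat_lit 4, [p1, p0, p0, m2], nat_lit 2203), (nat_lit 8, nat_lit 3, [m1, m1, p0, p2], nat_lit 869),
    (nat_lit 11, nat_lit 3, [m2, p2, m1, m1], nat_lit 3342), (nat_lit 2, nat_lit 3, [p1, p0, m2, p0], nat_lit 1111),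
    (nat_lit 9, nat_lit 3, [m1, m1, p2, p0], nat_lit 937), (nat_lit 9, nat_lit 4, [p1, m2, p0, p2], nat_lit 613),
    (nat_lit 5, nat_lit 3, [m2, p1, m1, p1], nat_lit 1318), (nat_lit 11, nat_lit 3, [p2, p0, m1, m1], nat_lit 3280),
    (nat_lit 11, nat_lit 3, [m2, p1, p1, m1], nat_lit 2346), (nat_lit 5, nat_lit 3, [p1, m2, p2, p0], nat_lit 681),
    (nat_lit 8, nat_lit 4, [m1, p2, m2, p0], nat_lit 1286), (nat_lit 9, nat_lit 3, [p2, m1, m1, p1], nat_lit 1616),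
    (nat_lit 2, nat_lit 3, [m2, p0, p1, p1], nat_lit 300), (nat_lit 11, nat_lit 3, [p2, m1, p1, m1], nat_lit 2704),
    (nat_lit 8, nat_lit 3, [m1, p2, p0, m2], nat_lit 2314), (nat_lit 10, nat_lit 4, [p1, p1, m2, p0], nat_lit 1104),
    (nat_lit 8, nat_lit 3, [m1, p0, p2, p0], nat_lit 296), (nat_lit 6, nat_lit 2, [p2, m2, p1, p1], nat_lit 704),
    (nat_lit 7, nat_lit 2, [p1, p1, p0, m2], nat_lit 2192), (nat_lit 8, nat_lit 2, [m1, p0, p0, p2], nat_lit 292),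
    (nat_lit 9, nat_lit 2, [p1, m1, p2, p0], nat_lit 640), (nat_lit 10, nat_lit 1, [p0, p2, m1, m1], nat_lit 3072),
    (nat_lit 9, nat_lit 1, [p1, m1, p0, p2], nat_lit 576), (nat_lit 11, nat_lit 1, [p0, p1, p1, m1], nat_lit 2048),
    (nat_lit 10, nat_lit 0, [p0, p1, m1, p1], nat_lit 1024), (nat_lit 999, nat_lit 999, [p0, p0, p1, p1], nat_lit 0)]

end Cfsg.Agent.TwoF.DC.D4
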